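import Groth.Agent.H9.Val
import Mathlib.RingTheory.Valuation.ValuationRing

universe u

open CategoryTheory CategoryTheory.Limits AlgebraicGeometry Opposite

namespace Groth.Agent.H9.ValLift

/-- An element of the fraction field of a valuation ring which becomes integral in a dominating
valuation ring is integral. -/
theorem mem_range_of_dominated {A K A' K' : Type u} [CommRing A] [IsDomain A] [ValuationRing A]
    [Field K] [Algebra A K] [IsFractionRing A K] [CommRing A'] [CommRing K'] [Algebra A' K']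
    (hinj : Function.Injective (algebraMap A' K')) (φ : A →+* A') (ψ : K →+* K')
    (h : (algebraMap A' K').comp φ = ψ.comp (algebraMap A K)) [IsLocalHom φ]
    (x : K) (a' : A') (ha : ψ x = algebraMap A' K' a') : x ∈ (algebraMap A K).range := by
  rcases ValuationRing.isInteger_or_isInteger A x with ⟨a, rfl⟩ | ⟨c, hc⟩
  · exact ⟨a, rfl⟩
  · by_cases hx : x = 0
    · exact ⟨0, by simp [hx]⟩
    have hu : φ c * a' = 1 := by
      apply hinj
      have h' : algebraMap A' K' (φ c) = ψ (algebraMap A K c) := RingHom.congr_fun h c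
      rw [map_mul, map_one, h', ← ha, ← map_mul, hc, inv_mul_cancel₀ hx, map_one]
    obtain ⟨u, rfl⟩ := isUnit_of_map_unit φ c (IsUnit.of_mul_eq_one _ hu)
    exact ⟨↑u⁻¹, by rw [map_units_inv, hc, inv_inv]⟩

/-- Descent of a lift of a valuative square along a dominating extension of valuation rings,
for a scheme over the valuation ring. -/
theorem exists_lift {A K A' K' : Type u} [CommRing A] [IsDomain A] [ValuationRing A]
    [Field K] [Algebra A K] [IsFractionRing A K] [CommRing A'] [IsDomain A'] [IsLocalRing A']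
    [Field K'] [Algebra A' K'] [IsFractionRing A' K']
    (φ : A →+* A') (ψ : K →+* K')
    (hc : (algebraMap A' K').comp φ = ψ.comp (algebraMap A K)) [IsLocalHom φ]
    {W : Scheme.{u}} (q : W ⟶ Spec (.of A)) (k : Spec (.of K) ⟶ W)
    (hk : k ≫ q = Spec.map (CommRingCat.ofHom (algebraMap A K)))
    (m : Spec (.of A') ⟶ W)
    (hm : Spec.map (CommRingCat.ofHom (algebraMap A' K')) ≫ m =
      Spec.map (CommRingCat.ofHom ψ) ≫ k) :
    ∃ l : Spec (.of A) ⟶ W,
      Spec.map (CommRingCat.ofHom (algebraMap A K)) ≫ l = k ∧ l ≫ q = 𝟙 _ := by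
  obtain ⟨_, ⟨U, hU, rfl⟩, hxU, -⟩ := W.isBasis_affineOpens.exists_subset_of_mem_open
    (show m (IsLocalRing.closedPoint A') ∈ (⊤ : W.Opens) from trivial) (⊤ : W.Opens).isOpen
  replace hU : IsAffineOpen U := hU
  have := hU.isOpenImmersion_fromSpec
  have hmU : Set.range m ⊆ U := by
    rintro _ ⟨p, rfl⟩
    have hp : p ⤳ IsLocalRing.closedPoint A' :=
      (PrimeSpectrum.le_iff_specializes _ _).1 (IsLocalRing.le_maximalIdeal p.2.ne_top)
    exact (hp.map m.continuous).mem_open U.isOpen hxU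
  have hkU : Set.range k ⊆ U := by
    rintro _ ⟨p, rfl⟩
    obtain rfl : p = Spec.map (CommRingCat.ofHom ψ) (IsLocalRing.closedPoint K') :=
      Subsingleton.elim _ _
    show (Spec.map (CommRingCat.ofHom ψ) ≫ k) (IsLocalRing.closedPoint K') ∈ U
    rw [← hm]
    exact hmU ⟨_, rfl⟩
  have hr : Set.range hU.fromSpec = U := hU.range_fromSpec
  obtain ⟨ρ, hρ⟩ := Spec.map_surjective (IsOpenImmersion.lift hU.fromSpec m (hr ▸ hmU))
  obtain ⟨σ, hσ⟩ := Spec.map_surjective (IsOpenImmersion.lift hU.fromSpec k (hr ▸ hkU))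
  have hρ' : Spec.map ρ ≫ hU.fromSpec = m := by rw [hρ, IsOpenImmersion.lift_fac]
  have hσ' : Spec.map σ ≫ hU.fromSpec = k := by rw [hσ, IsOpenImmersion.lift_fac]
  have hρσ : ρ ≫ CommRingCat.ofHom (algebraMap A' K') = σ ≫ CommRingCat.ofHom ψ := by
    apply Spec.map_injective
    rw [← cancel_mono hU.fromSpec, Spec.map_comp, Spec.map_comp, Category.assoc, Category.assoc,
      hρ', hσ', hm]
  have hmem : ∀ r, ∃ a : A, algebraMap A K a = σ.hom r := fun r =>
    mem_range_of_dominated (IsFractionRing.injective A' K') φ ψ hc (σ.hom r) (ρ.hom r)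
      (RingHom.congr_fun (congrArg CommRingCat.Hom.hom hρσ) r).symm
  choose τ hτ using hmem
  have hi := IsFractionRing.injective A K
  let τ' : Γ(W, U) →+* A :=
    { toFun := τ
      map_one' := hi (by simp [hτ])
      map_zero' := hi (by simp [hτ])
      map_add' := fun x y => hi (by simp [hτ])
      map_mul' := fun x y => hi (by simp [hτ]) }
  have hfac : Spec.map (CommRingCat.ofHom (algebraMap A K)) ≫ Spec.map (CommRingCat.ofHom τ') =
      Spec.map σ := by
    rw [← Spec.map_comp]
    exact congrArg Spec.map (CommRingCat.hom_ext (RingHom.ext hτ))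
  refine ⟨Spec.map (CommRingCat.ofHom τ') ≫ hU.fromSpec, by rw [reassoc_of% hfac, hσ'], ?_⟩
  obtain ⟨π, hπ⟩ := Spec.map_surjective ((Spec.map (CommRingCat.ofHom τ') ≫ hU.fromSpec) ≫ q)
  have h2 : π ≫ CommRingCat.ofHom (algebraMap A K) = CommRingCat.ofHom (algebraMap A K) := by
    apply Spec.map_injective
    rw [Spec.map_comp, hπ, Category.assoc, reassoc_of% hfac, reassoc_of% hσ', hk]
  have : π = 𝟙 _ := CommRingCat.hom_ext (RingHom.ext fun a =>
    hi (RingHom.congr_fun (congrArg CommRingCat.Hom.hom h2) a))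
  rw [← hπ, this, Spec.map_id]

open AlgSp

variable {S : Scheme.{u}} {F G : Sp S} {f : F ⟶ G}

/-- The strict existence criterion implies the existence criterion. -/
theorem existVC_of_strict (h : ExistVCStrict f) : ExistVC f := by
  intro sq
  obtain ⟨l, h₁, h₂⟩ := h sq
  let e : sq.DomExt :=
    { A' := sq.A
      K' := sq.K
      φ := RingHom.id _
      ψ := RingHom.id _
      comm := by simp
      isLocalHom := ⟨fun _ h => h⟩ }
  let ι : e.ptA' ⟶ sq.ptA := Over.homMk (Spec.map (CommRingCat.ofHom (RingHom.id sq.A))) rfl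
  refine ⟨e, (yon S).map ι ≫ l, ?_, by rw [Category.assoc, h₂]⟩
  rw [← h₁, ← Functor.map_comp_assoc, ← Functor.map_comp_assoc]
  congr 2
  ext : 1
  change Spec.map _ ≫ Spec.map _ = Spec.map _ ≫ Spec.map _
  rw [← Spec.map_comp, ← Spec.map_comp]
  rfl

/-- For a representable morphism the existence criterion implies the strict one. -/
theorem existVCStrict_of_representable (hf : Representable f) (h : ExistVC f) :
    ExistVCStrict f := by
  intro sq
  obtain ⟨e, l, h₁, h₂⟩ := h sq
  obtain ⟨k, hk⟩ := (yon S).map_surjective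
    ((hf.isPullback sq.bot).lift sq.top ((yon S).map sq.j) sq.comm)
  obtain ⟨m, hm⟩ := (yon S).map_surjective ((hf.isPullback sq.bot).lift l _ h₂)
  have hkj : k ≫ hf.snd sq.bot = sq.j := by
    apply (yon S).map_injective
    rw [Functor.map_comp, hk, IsPullback.lift_snd]
  have hmφ : m ≫ hf.snd sq.bot =
      (Over.homMk (Spec.map (CommRingCat.ofHom e.φ)) rfl : e.ptA' ⟶ sq.ptA) := by
    apply (yon S).map_injective
    rw [Functor.map_comp, hm, IsPullback.lift_snd]
  let jA : e.ptK' ⟶ e.ptA' :=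
    Over.homMk (Spec.map (CommRingCat.ofHom (algebraMap e.A' e.K'))) rfl
  let jψ : e.ptK' ⟶ sq.ptK := Over.homMk (Spec.map (CommRingCat.ofHom e.ψ)) (by
    change Spec.map _ ≫ Spec.map _ ≫ _ = Spec.map _ ≫ Spec.map _ ≫ _
    rw [← Spec.map_comp_assoc, ← Spec.map_comp_assoc, ← CommRingCat.ofHom_comp,
      ← CommRingCat.ofHom_comp, e.comm])
  have hjm : jA ≫ m = jψ ≫ k := by
    apply (yon S).map_injective
    rw [Functor.map_comp, Functor.map_comp, hm, hk]
    refine (hf.isPullback sq.bot).hom_ext ?_ ?_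
    · simp only [Category.assoc, IsPullback.lift_fst]
      exact h₁
    · simp only [Category.assoc, IsPullback.lift_snd, ← Functor.map_comp]
      congr 1
      ext : 1
      change Spec.map _ ≫ Spec.map _ = Spec.map _ ≫ Spec.map _
      rw [← Spec.map_comp, ← Spec.map_comp, ← CommRingCat.ofHom_comp, ← CommRingCat.ofHom_comp,
        e.comm]
  obtain ⟨l₀, hl₁, hl₂⟩ := @exists_lift sq.A sq.K e.A' e.K' _ _ _ _ _ _ _ _ inferInstance _ _ _
    e.φ e.ψ e.comm e.isLocalHom _ (hf.snd sq.bot).left k.left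
    (congrArg (fun x : sq.ptK ⟶ sq.ptA => x.left) hkj) m.left
    (congrArg (fun x : e.ptK' ⟶ hf.pullback sq.bot => x.left) hjm)
  let l' : sq.ptA ⟶ hf.pullback sq.bot := Over.homMk l₀ (by
    rw [← Over.w (hf.snd sq.bot), ← Category.assoc, hl₂]
    exact Category.id_comp _)
  refine ⟨(yon S).map l' ≫ hf.fst sq.bot, ?_, ?_⟩
  · have : sq.j ≫ l' = k := by ext : 1; exact hl₁
    rw [← Functor.map_comp_assoc, this, hk, IsPullback.lift_fst]
  · have : l' ≫ hf.snd sq.bot = 𝟙 _ := by ext : 1; exact hl₂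
    rw [Category.assoc, hf.w, ← Functor.map_comp_assoc, this]
    exact congrArg (· ≫ sq.bot) ((yon S).map_id _) |>.trans (Category.id_comp _)

end Groth.Agent.H9.ValLift
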