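import Groth.Prelude.Def_AlgSpMor5
import Mathlib.AlgebraicGeometry.Morphisms.ClosedImmersion

universe u

open CategoryTheory CategoryTheory.Limits AlgebraicGeometry Opposite

namespace Groth.Agent.H9.Val

/-- The map `Spec K ⟶ Spec A` for an injective ring map is injective on global functions. -/
theorem appTop_specMap_injective {A K : CommRingCat.{u}} (φ : A ⟶ K)
    (hφ : Function.Injective φ) : Function.Injective (Spec.map φ).appTop := by
  have h : (Spec.map φ).appTop =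
      (Scheme.ΓSpecIso A).hom ≫ φ ≫ (Scheme.ΓSpecIso K).inv := by
    rw [← Scheme.ΓSpecIso_naturality_assoc, Iso.hom_inv_id, Category.comp_id]
  rw [h]
  exact ((ConcreteCategory.bijective_of_isIso (Scheme.ΓSpecIso K).inv).1.comp hφ).comp
    (ConcreteCategory.bijective_of_isIso (Scheme.ΓSpecIso A).hom).1

/-- A closed immersion into an affine scheme through which a map injective on global
functions factors is an isomorphism. -/
theorem isIso_of_factors {X Y T : Scheme.{u}} [IsAffine Y] (i : X ⟶ Y) [IsClosedImmersion i]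
    (k : T ⟶ X) (g : T ⟶ Y) (hk : k ≫ i = g) (hg : Function.Injective g.appTop) : IsIso i := by
  refine IsClosedImmersion.isIso_of_injective_of_isAffine ?_
  have : Function.Injective (i.appTop ≫ k.appTop) := by
    rw [← Scheme.Hom.comp_appTop, hk]; exact hg
  exact Function.Injective.of_comp this

open AlgSp

variable {S : Scheme.{u}} {F G : Sp S} {f : F ⟶ G}

theorem isIso_left_of_isIso {U V : Over S} (g : U ⟶ V) [IsIso g.left] : IsIso g :=
  have : IsIso ((Over.forget S).map g) := ‹IsIso g.left›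
  isIso_of_reflects_iso g (Over.forget S)

/-- A morphism with closed immersion diagonal satisfies the uniqueness valuative criterion. -/
theorem uniqVC_of_diag (hf : RepWith @IsClosedImmersion (pullback.diagonal f)) : UniqVC f := by
  intro sq l l' h₁ h₂ h₁' h₂'
  let p : (yon S).obj sq.ptA ⟶ pullback f f := pullback.lift l l' (h₂.trans h₂'.symm)
  have hcl : IsClosedImmersion (hf.1.snd p).left :=
    hf.2 p (hf.1.fst p) (hf.1.snd p) (hf.1.isPullback p)
  have hk : sq.top ≫ pullback.diagonal f = (yon S).map sq.j ≫ p := by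
    apply pullback.hom_ext
    · simp only [Category.assoc, pullback.diagonal_fst, Category.comp_id, p, pullback.lift_fst, h₁]
    · simp only [Category.assoc, pullback.diagonal_snd, Category.comp_id, p, pullback.lift_snd, h₁']
  obtain ⟨k, hk'⟩ := (yon S).map_surjective ((hf.1.isPullback p).lift sq.top ((yon S).map sq.j) hk)
  have hkj : k ≫ hf.1.snd p = sq.j := by
    apply (yon S).map_injective
    rw [Functor.map_comp, hk', IsPullback.lift_snd]
  have : IsAffine sq.ptA.left := inferInstanceAs (IsAffine (Spec _))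
  have : IsIso (hf.1.snd p).left :=
    isIso_of_factors _ k.left (Spec.map (CommRingCat.ofHom (algebraMap sq.A sq.K)))
      (congrArg (fun m : sq.ptK ⟶ sq.ptA => m.left) hkj)
      (appTop_specMap_injective _ (IsFractionRing.injective sq.A sq.K))
  have : IsIso (hf.1.snd p) := isIso_left_of_isIso _
  rw [← cancel_epi ((yon S).map (hf.1.snd p))]
  have e := hf.1.w p
  have e₁ := congrArg (· ≫ pullback.fst f f) e
  have e₂ := congrArg (· ≫ pullback.snd f f) e
  simp only [Category.assoc, pullback.diagonal_fst, pullback.diagonal_snd, Category.comp_id, p,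
    pullback.lift_fst, pullback.lift_snd] at e₁ e₂
  exact e₁.symm.trans e₂

/-- The uniqueness valuative criterion is stable under composition. -/
theorem uniqVC_comp {H : Sp S} {g : G ⟶ H} (hf : UniqVC f) (hg : UniqVC g) : UniqVC (f ≫ g) := by
  intro sq l l' h₁ h₂ h₁' h₂'
  have wit : (sq.top ≫ f) ≫ g = (yon S).map sq.j ≫ sq.bot :=
    (Category.assoc _ _ _).trans sq.comm
  have hw : l ≫ f = l' ≫ f := hg ⟨sq.A, sq.K, sq.str, sq.top ≫ f, sq.bot, wit⟩
    (l ≫ f) (l' ≫ f)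
    ((Category.assoc _ _ _).symm.trans (congrArg (· ≫ f) h₁)) ((Category.assoc _ _ _).trans h₂)
    ((Category.assoc _ _ _).symm.trans (congrArg (· ≫ f) h₁')) ((Category.assoc _ _ _).trans h₂')
  exact hf ⟨sq.A, sq.K, sq.str, sq.top, l ≫ f,
    (congrArg (· ≫ f) h₁).symm.trans (Category.assoc _ _ _)⟩ l l' h₁ rfl h₁' hw.symm

theorem assemble {H : Sp S} {g : G ⟶ H} {P₁ P₂ P₃ T₁ T₂ T₃ : Over S}
    (jA : P₃ ⟶ P₁) (ι : P₁ ⟶ P₂) (ι' : P₃ ⟶ T₁) (jA₂ : T₁ ⟶ P₂)
    (hι : jA ≫ ι = ι' ≫ jA₂) (q : T₁ ⟶ T₂) (q' : T₂ ⟶ T₃) (r : P₃ ⟶ T₃)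
    (hr : ι' ≫ q ≫ q' = r) (l : (yon S).obj P₂ ⟶ F) (top : (yon S).obj T₃ ⟶ F)
    (hl : (yon S).map jA₂ ≫ l = (yon S).map q ≫ (yon S).map q' ≫ top)
    {M N : Over S} (p : P₂ ⟶ M) (p' : M ⟶ N) (s : P₁ ⟶ N) (hs : ι ≫ p ≫ p' = s)
    (l₁ : (yon S).obj M ⟶ G) (bot : (yon S).obj N ⟶ H)
    (hl' : l ≫ f = (yon S).map p ≫ l₁) (hl₁ : l₁ ≫ g = (yon S).map p' ≫ bot) :
    (yon S).map jA ≫ ((yon S).map ι ≫ l) = (yon S).map r ≫ top ∧
      ((yon S).map ι ≫ l) ≫ f ≫ g = (yon S).map s ≫ bot := by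
  subst hr hs
  refine ⟨?_, ?_⟩
  · rw [← Functor.map_comp_assoc, hι, Functor.map_comp_assoc, hl]
    simp only [Functor.map_comp, Category.assoc]
  · rw [Category.assoc, reassoc_of% hl', hl₁]
    simp only [Functor.map_comp, Category.assoc]

/-- The existence valuative criterion is stable under composition. -/
theorem existVC_comp {H : Sp S} {g : G ⟶ H} (hf : ExistVC f) (hg : ExistVC g) :
    ExistVC (f ≫ g) := by
  intro sq
  let sqg : ValSq g := ⟨sq.A, sq.K, sq.str, sq.top ≫ f, sq.bot,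
    (Category.assoc _ _ _).trans sq.comm⟩
  obtain ⟨e₁, l₁, hl₁, hl₁'⟩ := hg sqg
  let q' : e₁.ptK' ⟶ sqg.ptK := Over.homMk (Spec.map (CommRingCat.ofHom e₁.ψ)) (by
    change Spec.map _ ≫ Spec.map _ ≫ _ = Spec.map _ ≫ Spec.map _ ≫ _
    rw [← Spec.map_comp_assoc, ← Spec.map_comp_assoc, ← CommRingCat.ofHom_comp,
      ← CommRingCat.ofHom_comp, e₁.comm])
  let sqf : ValSq f := ⟨e₁.A', e₁.K', Spec.map (CommRingCat.ofHom e₁.φ) ≫ sq.str,
    (yon S).map q' ≫ sq.top, l₁, (Category.assoc _ _ _).trans hl₁.symm⟩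
  obtain ⟨e₂, l₂, hl₂, hl₂'⟩ := hf sqf
  let e : sq.DomExt :=
    letI := e₁.isLocalHom
    letI := e₂.isLocalHom
    { A' := e₂.A'
      K' := e₂.K'
      φ := e₂.φ.comp e₁.φ
      ψ := e₂.ψ.comp e₁.ψ
      comm := by
        rw [← RingHom.comp_assoc, e₂.comm, RingHom.comp_assoc, e₁.comm, RingHom.comp_assoc]
      isLocalHom := RingHom.isLocalHom_comp _ _ }
  let ι : e.ptA' ⟶ e₂.ptA' := Over.homMk (𝟙 _) (by simp [e, sqf, sqg])
  let ι' : e.ptK' ⟶ e₂.ptK' := Over.homMk (𝟙 _) (by simp [e, sqf, sqg])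
  refine ⟨e, (yon S).map ι ≫ l₂, assemble _ ι ι' _ ?_ _ q' _ ?_ l₂ sq.top hl₂ _ _ _ ?_
    l₁ sq.bot hl₂' hl₁'⟩
  · ext : 1
    simp [ι, ι', e]
  · ext : 1
    simp [ι', q', e]
  · ext : 1
    simp [ι, e]

end Groth.Agent.H9.Val
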